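import Mathlib

/-!
# Conjugacy in `GL₂` over a field: companion matrices

Every non-scalar `2 × 2` invertible matrix is conjugate in `GL₂` to the companion matrix of its
characteristic polynomial.  Hence two non-scalar elements of `GL₂` are conjugate iff they have
the same trace and determinant.  A generic "classifier" lemma to count conjugacy classes.
-/

set_option autoImplicit false

namespace Cfsg.Agent.Lib.Linalg.GL2Conj

open Matrix
open scoped MatrixGroups

/-- If `c : G → T` is a surjective complete conjugacy invariant, the conjugacy classes of `G` are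
in bijection with `T`. -/
theorem card_conjClasses_of_classifier {G T : Type*} [Group G] (c : G → T)
    (hc : ∀ g h, IsConj g h ↔ c g = c h) (hs : Function.Surjective c) :
    Nat.card (ConjClasses G) = Nat.card T := by
  have hwd : ∀ a b : G, IsConj a b → c a = c b := fun a b h => (hc a b).1 h
  let f : ConjClasses G → T := Quotient.lift c hwd
  have hf : Function.Bijective f := by
    constructor
    · intro x y h
      obtain ⟨a, rfl⟩ := ConjClasses.mk_surjective x
      obtain ⟨b, rfl⟩ := ConjClasses.mk_surjective y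
      exact ConjClasses.mk_eq_mk_iff_isConj.2 ((hc a b).2 h)
    · intro t
      obtain ⟨g, rfl⟩ := hs t
      exact ⟨ConjClasses.mk g, rfl⟩
  exact Nat.card_congr (Equiv.ofBijective f hf)

variable {F : Type*} [Field F]

omit [Field F] in
theorem eq_of_entries {F : Type*} {A B : Matrix (Fin 2) (Fin 2) F} (h00 : A 0 0 = B 0 0) (h01 : A 0 1 = B 0 1)
    (h10 : A 1 0 = B 1 0) (h11 : A 1 1 = B 1 1) : A = B := by
  ext i j
  fin_cases i <;> fin_cases j <;> assumption

/-- A `2 × 2` matrix is scalar. -/
def IsScalar2 (A : Matrix (Fin 2) (Fin 2) F) : Prop :=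
  A 0 1 = 0 ∧ A 1 0 = 0 ∧ A 0 0 = A 1 1

/-- For a non-scalar matrix there is a vector `v` with `v, A v` independent. -/
theorem exists_cyclic_vector (A : Matrix (Fin 2) (Fin 2) F) (h : ¬ IsScalar2 A) :
    ∃ x y : F, x * (A 1 0 * x + A 1 1 * y) - y * (A 0 0 * x + A 0 1 * y) ≠ 0 := by
  by_contra hc
  push Not at hc
  apply h
  have h10 := hc 1 0
  have h01 := hc 0 1
  have h11 := hc 1 1
  simp only [mul_one, mul_zero, add_zero, zero_add, one_mul, zero_mul, sub_zero, zero_sub,
    neg_eq_zero] at h10 h01 h11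
  refine ⟨h01, h10, ?_⟩
  rw [h10, h01] at h11
  have : A 1 1 - A 0 0 = 0 := by simpa using h11
  exact (sub_eq_zero.mp this).symm

/-- The companion matrix with trace `t` and determinant `d`. -/
def compan (t d : F) : Matrix (Fin 2) (Fin 2) F := !![0, -d; 1, t]

@[simp] theorem compan_det (t d : F) : (compan t d).det = d := by
  simp [compan, Matrix.det_fin_two]

@[simp] theorem compan_trace (t d : F) : (compan t d).trace = t := by
  simp [compan, Matrix.trace_fin_two]

/-- The conjugator whose columns are `v = (x, y)` and `A v`. -/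
def cyclicBasis (A : Matrix (Fin 2) (Fin 2) F) (x y : F) : Matrix (Fin 2) (Fin 2) F :=
  !![x, A 0 0 * x + A 0 1 * y; y, A 1 0 * x + A 1 1 * y]

theorem cyclicBasis_det (A : Matrix (Fin 2) (Fin 2) F) (x y : F) :
    (cyclicBasis A x y).det = x * (A 1 0 * x + A 1 1 * y) - y * (A 0 0 * x + A 0 1 * y) := by
  simp [cyclicBasis, Matrix.det_fin_two]
  ring

theorem mul_cyclicBasis (A : Matrix (Fin 2) (Fin 2) F) (x y : F) :
    A * cyclicBasis A x y = cyclicBasis A x y * compan A.trace A.det := by
  apply eq_of_entries <;>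
    simp [cyclicBasis, compan, Matrix.mul_apply, Fin.sum_univ_two, Matrix.trace_fin_two,
      Matrix.det_fin_two] <;> ring

/-- Every non-scalar element of `GL₂` is conjugate to a companion matrix: in matrix form. -/
theorem exists_conj_compan (A : Matrix (Fin 2) (Fin 2) F) (h : ¬ IsScalar2 A) :
    ∃ P : Matrix (Fin 2) (Fin 2) F, P.det ≠ 0 ∧ A * P = P * compan A.trace A.det := by
  obtain ⟨x, y, hxy⟩ := exists_cyclic_vector A h
  exact ⟨cyclicBasis A x y, by rwa [cyclicBasis_det], mul_cyclicBasis A x y⟩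

/-- Two elements of `GL₂` are conjugate as soon as an invertible matrix intertwines them. -/
theorem isConj_of_intertwine {g h : GL (Fin 2) F} {P : Matrix (Fin 2) (Fin 2) F} (hP : P.det ≠ 0)
    (hint : (g : Matrix (Fin 2) (Fin 2) F) * P = P * (h : Matrix (Fin 2) (Fin 2) F)) :
    IsConj h g := by
  rw [isConj_iff]
  refine ⟨GeneralLinearGroup.mkOfDetNeZero P hP, ?_⟩
  rw [mul_inv_eq_iff_eq_mul]
  apply Units.ext
  simpa [GeneralLinearGroup.mkOfDetNeZero] using hint.symm

/-- Two non-scalar elements of `GL₂` with the same trace and determinant are conjugate. -/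
theorem isConj_of_trace_det_eq {g h : GL (Fin 2) F}
    (hg : ¬ IsScalar2 (g : Matrix (Fin 2) (Fin 2) F))
    (hh : ¬ IsScalar2 (h : Matrix (Fin 2) (Fin 2) F))
    (ht : (g : Matrix (Fin 2) (Fin 2) F).trace = (h : Matrix (Fin 2) (Fin 2) F).trace)
    (hd : (g : Matrix (Fin 2) (Fin 2) F).det = (h : Matrix (Fin 2) (Fin 2) F).det) :
    IsConj g h := by
  obtain ⟨P, hP, hP'⟩ := exists_conj_compan _ hg
  obtain ⟨Q, hQ, hQ'⟩ := exists_conj_compan _ hh
  have hdg : (g : Matrix (Fin 2) (Fin 2) F).det ≠ 0 := by
    have := (Matrix.isUnit_iff_isUnit_det _).1 g.isUnit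
    exact this.ne_zero
  have hC : (compan (g : Matrix (Fin 2) (Fin 2) F).trace (g : Matrix (Fin 2) (Fin 2) F).det).det ≠ 0 := by
    simpa using hdg
  have h1 : IsConj (GeneralLinearGroup.mkOfDetNeZero _ hC) g :=
    isConj_of_intertwine hP hP'
  have h2 : IsConj (GeneralLinearGroup.mkOfDetNeZero _ hC) h := by
    rw [← ht, ← hd] at hQ'
    exact isConj_of_intertwine hQ hQ'
  exact h1.symm.trans h2

/-- The centre of `GL₂`: a scalar element of `GL₂` is fixed under conjugation. -/
theorem conj_eq_of_isScalar {g : GL (Fin 2) F} (hg : IsScalar2 (g : Matrix (Fin 2) (Fin 2) F))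
    (x : GL (Fin 2) F) : x * g * x⁻¹ = g := by
  have hcomm : (x : Matrix (Fin 2) (Fin 2) F) * (g : Matrix (Fin 2) (Fin 2) F) =
      (g : Matrix (Fin 2) (Fin 2) F) * (x : Matrix (Fin 2) (Fin 2) F) := by
    obtain ⟨h01, h10, h00⟩ := hg
    apply eq_of_entries <;>
      simp [Matrix.mul_apply, Fin.sum_univ_two, h01, h10, h00] <;> ring
  rw [mul_inv_eq_iff_eq_mul]
  apply Units.ext
  simpa using hcomm

/-- Conjugates of scalar elements are scalar (they are the same). -/
theorem isScalar_of_isConj {g h : GL (Fin 2) F} (hc : IsConj g h)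
    (hg : IsScalar2 (g : Matrix (Fin 2) (Fin 2) F)) :
    h = g := by
  obtain ⟨x, rfl⟩ := isConj_iff.1 hc
  exact conj_eq_of_isScalar hg x

theorem trace_det_eq_of_isConj {g h : GL (Fin 2) F} (hc : IsConj g h) :
    (g : Matrix (Fin 2) (Fin 2) F).trace = (h : Matrix (Fin 2) (Fin 2) F).trace ∧
    (g : Matrix (Fin 2) (Fin 2) F).det = (h : Matrix (Fin 2) (Fin 2) F).det := by
  obtain ⟨x, rfl⟩ := isConj_iff.1 hc
  constructor
  · rw [Units.val_mul, Units.val_mul]
    exact (Matrix.trace_units_conj x _).symm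
  · rw [Units.val_mul, Units.val_mul]
    exact (Matrix.det_units_conj x _).symm

/-- A scalar `2 × 2` matrix is `A 0 0` times the identity. -/
theorem eq_smul_one_of_isScalar {A : Matrix (Fin 2) (Fin 2) F} (h : IsScalar2 A) :
    A = A 0 0 • (1 : Matrix (Fin 2) (Fin 2) F) := by
  obtain ⟨h01, h10, h00⟩ := h
  apply eq_of_entries <;> simp [h01, h10, h00]

/-- Classifier of conjugacy classes in `GL₂`. -/
noncomputable def glClassifier (g : GL (Fin 2) F) : Fˣ ⊕ (F × Fˣ) :=
  open Classical in
  if h : IsScalar2 (g : Matrix (Fin 2) (Fin 2) F) then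
    Sum.inl (Units.mk0 ((g : Matrix (Fin 2) (Fin 2) F) 0 0) (by
      intro h0
      have hd : (g : Matrix (Fin 2) (Fin 2) F).det ≠ 0 :=
        ((Matrix.isUnit_iff_isUnit_det _).1 g.isUnit).ne_zero
      apply hd
      rw [Matrix.det_fin_two, h0, h.1]
      simp))
  else
    Sum.inr ((g : Matrix (Fin 2) (Fin 2) F).trace,
      Units.mk0 (g : Matrix (Fin 2) (Fin 2) F).det
        ((Matrix.isUnit_iff_isUnit_det _).1 g.isUnit).ne_zero)

theorem isConj_iff_glClassifier_eq (g h : GL (Fin 2) F) :
    IsConj g h ↔ glClassifier g = glClassifier h := by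
  classical
  constructor
  · intro hc
    by_cases hg : IsScalar2 (g : Matrix (Fin 2) (Fin 2) F)
    · rw [isScalar_of_isConj hc hg]
    · have hh : ¬ IsScalar2 (h : Matrix (Fin 2) (Fin 2) F) := by
        intro hh
        exact hg (by rw [isScalar_of_isConj hc.symm hh]; exact hh)
      obtain ⟨h1, h2⟩ := trace_det_eq_of_isConj hc
      simp only [glClassifier, dif_neg hg, dif_neg hh]
      congr 2
      exact Units.ext h2
  · intro hc
    by_cases hg : IsScalar2 (g : Matrix (Fin 2) (Fin 2) F)
    · by_cases hh : IsScalar2 (h : Matrix (Fin 2) (Fin 2) F)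
      · simp only [glClassifier, dif_pos hg, dif_pos hh, Sum.inl.injEq] at hc
        have h0 := congrArg Units.val hc
        simp only [Units.val_mk0] at h0
        have : g = h := by
          apply Units.ext
          rw [eq_smul_one_of_isScalar hg, eq_smul_one_of_isScalar hh, h0]
        rw [this]
      · simp [glClassifier, dif_pos hg, dif_neg hh] at hc
    · by_cases hh : IsScalar2 (h : Matrix (Fin 2) (Fin 2) F)
      · simp [glClassifier, dif_neg hg, dif_pos hh] at hc
      · simp only [glClassifier, dif_neg hg, dif_neg hh, Sum.inr.injEq, Prod.mk.injEq] at hc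
        exact isConj_of_trace_det_eq hg hh hc.1 (congrArg Units.val hc.2)

theorem glClassifier_surjective : Function.Surjective (glClassifier (F := F)) := by
  classical
  rintro (a | ⟨t, d⟩)
  · have hdet : ((a : F) • (1 : Matrix (Fin 2) (Fin 2) F)).det ≠ 0 := by
      rw [Matrix.det_smul]
      simp
    refine ⟨GeneralLinearGroup.mkOfDetNeZero _ hdet, ?_⟩
    have hs : IsScalar2 ((GeneralLinearGroup.mkOfDetNeZero _ hdet : GL (Fin 2) F) : Matrix (Fin 2) (Fin 2) F) := by
      simp [IsScalar2, GeneralLinearGroup.mkOfDetNeZero]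
    rw [glClassifier, dif_pos hs]
    congr 1
    apply Units.ext
    simp [GeneralLinearGroup.mkOfDetNeZero]
  · have hdet : (compan t (d : F)).det ≠ 0 := by simp
    refine ⟨GeneralLinearGroup.mkOfDetNeZero _ hdet, ?_⟩
    have hs : ¬ IsScalar2 ((GeneralLinearGroup.mkOfDetNeZero _ hdet : GL (Fin 2) F) : Matrix (Fin 2) (Fin 2) F) := by
      simp [IsScalar2, GeneralLinearGroup.mkOfDetNeZero, compan]
    rw [glClassifier, dif_neg hs]
    congr 2
    · simp [GeneralLinearGroup.mkOfDetNeZero]
    · apply Units.ext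
      simp [GeneralLinearGroup.mkOfDetNeZero]

/-- `GL₂(F)` has `q² - 1` conjugacy classes. -/
theorem card_conjClasses_GL2 [Fintype F] :
    Nat.card (ConjClasses (GL (Fin 2) F)) = Fintype.card F ^ 2 - 1 := by
  classical
  rw [card_conjClasses_of_classifier glClassifier isConj_iff_glClassifier_eq glClassifier_surjective]
  rw [Nat.card_sum, Nat.card_prod, Nat.card_units, Nat.card_eq_fintype_card]
  have hq : 1 ≤ Fintype.card F := Fintype.card_pos
  obtain ⟨r, hr⟩ : ∃ r, Fintype.card F = r + 1 := ⟨Fintype.card F - 1, by omega⟩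
  rw [hr]
  simp only [Nat.add_sub_cancel]
  have : (r + 1) ^ 2 - 1 = r + (r + 1) * r := by
    have : (r + 1) ^ 2 = r + (r + 1) * r + 1 := by ring
    omega
  exact this.symm

/-- An element with `(g - 1)² = 0`, `g ≠ 1` has trace `2` and determinant `1`, and is non-scalar. -/
theorem trace_det_of_sq_sub_one_eq_zero {g : GL (Fin 2) F} (hg : g ≠ 1)
    (h : ((g : Matrix (Fin 2) (Fin 2) F) - 1) ^ 2 = 0) :
    ¬ IsScalar2 (g : Matrix (Fin 2) (Fin 2) F) ∧ (g : Matrix (Fin 2) (Fin 2) F).trace = 2 ∧
      (g : Matrix (Fin 2) (Fin 2) F).det = 1 := by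
  set A : Matrix (Fin 2) (Fin 2) F := (g : Matrix (Fin 2) (Fin 2) F) with hA
  have hne : A ≠ 1 := fun hh => hg (Units.ext hh)
  have e00 : (A 0 0 - 1) ^ 2 + A 0 1 * A 1 0 = 0 := by
    have := congrFun (congrFun h 0) 0
    simp [pow_two, Matrix.mul_apply, Fin.sum_univ_two] at this
    linear_combination this
  have e01 : A 0 1 * (A 0 0 + A 1 1 - 2) = 0 := by
    have := congrFun (congrFun h 0) 1
    simp [pow_two, Matrix.mul_apply, Fin.sum_univ_two] at this
    linear_combination this
  have e10 : A 1 0 * (A 0 0 + A 1 1 - 2) = 0 := by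
    have := congrFun (congrFun h 1) 0
    simp [pow_two, Matrix.mul_apply, Fin.sum_univ_two] at this
    linear_combination this
  have e11 : (A 1 1 - 1) ^ 2 + A 0 1 * A 1 0 = 0 := by
    have := congrFun (congrFun h 1) 1
    simp [pow_two, Matrix.mul_apply, Fin.sum_univ_two] at this
    linear_combination this
  have hns : ¬ IsScalar2 A := by
    rintro ⟨h01, h10, h00⟩
    rw [h01] at e00
    have h1 : A 0 0 = 1 := by
      have : (A 0 0 - 1) ^ 2 = 0 := by simpa using e00
      have := pow_eq_zero_iff (two_ne_zero) |>.1 this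
      exact sub_eq_zero.1 this
    apply hne
    apply eq_of_entries <;> simp [h01, h10, ← h00, h1]
  have htr : A 0 0 + A 1 1 = 2 := by
    by_cases h01 : A 0 1 = 0
    · by_cases h10 : A 1 0 = 0
      · exfalso
        rw [h01] at e00 e11
        have h1 : A 0 0 = 1 := by
          have : (A 0 0 - 1) ^ 2 = 0 := by simpa using e00
          have := pow_eq_zero_iff (two_ne_zero) |>.1 this
          exact sub_eq_zero.1 this
        have h2 : A 1 1 = 1 := by
          have : (A 1 1 - 1) ^ 2 = 0 := by simpa using e11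
          have := pow_eq_zero_iff (two_ne_zero) |>.1 this
          exact sub_eq_zero.1 this
        exact hns ⟨h01, h10, by rw [h1, h2]⟩
      · have := (mul_eq_zero.1 e10).resolve_left h10
        exact sub_eq_zero.1 this
    · have := (mul_eq_zero.1 e01).resolve_left h01
      exact sub_eq_zero.1 this
  refine ⟨hns, by rw [Matrix.trace_fin_two]; exact htr, ?_⟩
  rw [Matrix.det_fin_two]
  have : A 1 1 = 2 - A 0 0 := by linear_combination htr
  rw [this] at e11 ⊢
  linear_combination (-1 : F) * e00

end Cfsg.Agent.Lib.Linalg.GL2Conj
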