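import Mathlib

/-!
Counting block triangular invertible matrices and the `q`-factorial form of `|GL_n(q)|`.
-/

set_option autoImplicit false
set_option linter.unusedSectionVars false

namespace Cfsg.Agent.Lib.Linalg.Count

open Matrix
open scoped MatrixGroups

variable {F : Type*} [Field F]
variable {ι : Type*} [Fintype ι] [DecidableEq ι]
variable {α : Type*} [LinearOrder α] [Fintype α]

/-- The matrix assembled from free entries above the diagonal blocks and diagonal blocks. -/
noncomputable def assemble (b : ι → α) (f : {p : ι × ι // b p.1 < b p.2} → F)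
    (G : ∀ a, Matrix {i // b i = a} {i // b i = a} F) : Matrix ι ι F :=
  Matrix.of fun i j =>
    if h : b i = b j then G (b i) ⟨i, rfl⟩ ⟨j, h.symm⟩
    else if hl : b i < b j then f ⟨(i, j), hl⟩ else 0

theorem assemble_blockTriangular (b : ι → α) (f : {p : ι × ι // b p.1 < b p.2} → F)
    (G : ∀ a, Matrix {i // b i = a} {i // b i = a} F) :
    (assemble b f G).BlockTriangular b := by
  intro i j hij
  have h1 : ¬ b i = b j := ne_of_gt hij
  have h2 : ¬ b i < b j := not_lt_of_gt hij
  simp [assemble, h1, h2]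

theorem assemble_toSquareBlock (b : ι → α) (f : {p : ι × ι // b p.1 < b p.2} → F)
    (G : ∀ a, Matrix {i // b i = a} {i // b i = a} F) (a : α) :
    (assemble b f G).toSquareBlock b a = G a := by
  ext ⟨x, rfl⟩ ⟨y, hy⟩
  simp only [Matrix.toSquareBlock, Matrix.toSquareBlockProp]
  exact dif_pos hy.symm

theorem assemble_det_ne_zero (b : ι → α) (f : {p : ι × ι // b p.1 < b p.2} → F)
    (G : ∀ a, Matrix {i // b i = a} {i // b i = a} F) (hG : ∀ a, (G a).det ≠ 0) :
    (assemble b f G).det ≠ 0 := by
  rw [(assemble_blockTriangular b f G).det, Finset.prod_ne_zero_iff]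
  intro a _
  rw [assemble_toSquareBlock]
  exact hG a

theorem block_det_ne_zero (b : ι → α) (M : Matrix ι ι F) (hM : M.BlockTriangular b) (hdet : M.det ≠ 0)
    (a : α) : (M.toSquareBlock b a).det ≠ 0 := by
  by_cases ha : a ∈ Finset.univ.image b
  · rw [hM.det, Finset.prod_ne_zero_iff] at hdet
    exact hdet a ha
  · have : IsEmpty {i // b i = a} := ⟨fun x => ha (Finset.mem_image.2 ⟨x.1, Finset.mem_univ _, x.2⟩)⟩
    rw [Matrix.det_isEmpty]
    exact one_ne_zero

/-- The unit attached to a matrix with nonzero determinant, with definitional underlying matrix. -/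
noncomputable def mkU {κ : Type*} [Fintype κ] [DecidableEq κ] (M : Matrix κ κ F) (h : M.det ≠ 0) : GL κ F :=
  ⟨M, M⁻¹, Matrix.mul_nonsing_inv _ (isUnit_iff_ne_zero.2 h), Matrix.nonsing_inv_mul _ (isUnit_iff_ne_zero.2 h)⟩

/-- The matrices of a family of invertible blocks. -/
def blockMats (b : ι → α) (G : ∀ a, GL {i // b i = a} F) :
    ∀ a, Matrix {i // b i = a} {i // b i = a} F :=
  fun a => ((G a : GL {i // b i = a} F) : Matrix {i // b i = a} {i // b i = a} F)

/-- The invertible block triangular matrices split into free entries and invertible diagonal blocks. -/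
noncomputable def blockEquiv (b : ι → α) :
    {g : GL ι F // (g : Matrix ι ι F).BlockTriangular b} ≃
      ({p : ι × ι // b p.1 < b p.2} → F) × (∀ a, GL {i // b i = a} F) where
  toFun g := (fun p => (g.1 : Matrix ι ι F) p.1.1 p.1.2, fun a =>
    mkU ((g.1 : Matrix ι ι F).toSquareBlock b a)
      (block_det_ne_zero b _ g.2 ((Matrix.isUnit_iff_isUnit_det _).1 g.1.isUnit).ne_zero a))
  invFun x := ⟨mkU (assemble b x.1 (blockMats b x.2))
      (assemble_det_ne_zero b _ _ fun a =>
        ((Matrix.isUnit_iff_isUnit_det _).1 (x.2 a).isUnit).ne_zero),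
    assemble_blockTriangular b x.1 (blockMats b x.2)⟩
  left_inv := by
    rintro ⟨g, hg⟩
    apply Subtype.ext
    apply Units.ext
    ext i j
    show assemble b _ (blockMats b _) i j = _
    by_cases h : b i = b j
    · exact dif_pos h
    · by_cases hl : b i < b j
      · simp only [assemble, Matrix.of_apply, dif_neg h, dif_pos hl]
      · have hlt : b j < b i := lt_of_le_of_ne (not_lt.1 hl) (Ne.symm h)
        simp only [assemble, Matrix.of_apply, dif_neg h, dif_neg hl]
        exact (hg hlt).symm
  right_inv := by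
    rintro ⟨f, G⟩
    refine Prod.ext ?_ ?_
    · funext ⟨⟨i, j⟩, hl⟩
      show assemble b f (blockMats b G) i j = f ⟨(i, j), hl⟩
      have h1 : ¬ b i = b j := ne_of_lt hl
      simp only [assemble, Matrix.of_apply, dif_neg h1, dif_pos hl]
    · funext a
      apply Units.ext
      exact assemble_toSquareBlock b f (blockMats b G) a

/-- Card of the block triangular group. -/
theorem card_blockTriangular_GL [Fintype F] (b : ι → α) :
    Nat.card {g : GL ι F // (g : Matrix ι ι F).BlockTriangular b} =
      Fintype.card F ^ Fintype.card {p : ι × ι // b p.1 < b p.2} *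
        ∏ a, Nat.card (GL {i // b i = a} F) := by
  classical
  rw [Nat.card_congr (blockEquiv (F := F) b), Nat.card_prod, Nat.card_fun, Nat.card_pi,
    Nat.card_eq_fintype_card, Nat.card_eq_fintype_card]

/-- The `q`-factorial `[m]_q! = ∏_{j<m} (1 + q + ⋯ + q^j)`. -/
def qf (q m : ℕ) : ℕ := ∏ j ∈ Finset.range m, ∑ l ∈ Finset.range (j + 1), q ^ l

theorem pow_eq_geom (q k : ℕ) (hq : 1 ≤ q) : q ^ k = (q - 1) * ∑ l ∈ Finset.range k, q ^ l + 1 := by
  obtain ⟨r, rfl⟩ : ∃ r, q = r + 1 := ⟨q - 1, by omega⟩
  simp only [Nat.add_sub_cancel]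
  induction k with
  | zero => simp
  | succ k ih =>
    have h : (r + 1) ^ (k + 1) = (r + 1) ^ k * r + (r + 1) ^ k := by ring
    rw [h, Finset.sum_range_succ, mul_add]
    linarith [ih, mul_comm r ((r + 1) ^ k)]

theorem prod_pow_sub_eq (q m : ℕ) (hq : 1 ≤ q) :
    ∏ i : Fin m, (q ^ m - q ^ (i : ℕ)) = q ^ (m * (m - 1) / 2) * (q - 1) ^ m * qf q m := by
  rw [Fin.prod_univ_eq_prod_range (fun i => q ^ m - q ^ i) m]
  have h1 : ∀ i ∈ Finset.range m, q ^ m - q ^ i =
      q ^ i * ((q - 1) * ∑ l ∈ Finset.range (m - 1 - i + 1), q ^ l) := by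
    intro i hi
    have hi' : i < m := Finset.mem_range.1 hi
    have e : m - 1 - i + 1 = m - i := by omega
    rw [e]
    have h2 := pow_eq_geom q (m - i) hq
    have h3 : q ^ m = q ^ i * q ^ (m - i) := by
      rw [← pow_add]; congr 1; omega
    rw [h3, h2, mul_add, mul_one, Nat.add_sub_cancel]
  rw [Finset.prod_congr rfl h1, Finset.prod_mul_distrib, Finset.prod_mul_distrib,
    Finset.prod_pow_eq_pow_sum, Finset.sum_range_id, Finset.prod_const, Finset.card_range, qf,
    Finset.prod_range_reflect (fun j => ∑ l ∈ Finset.range (j + 1), q ^ l) m, mul_assoc]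

/-- `|GL_κ(q)|` in `q`-factorial form, for any finite index type `κ`. -/
theorem card_GL_eq [Fintype F] {κ : Type*} [Fintype κ] [DecidableEq κ] :
    Nat.card (GL κ F) = Fintype.card F ^ (Fintype.card κ * (Fintype.card κ - 1) / 2) *
      (Fintype.card F - 1) ^ Fintype.card κ * qf (Fintype.card F) (Fintype.card κ) := by
  have e : GL κ F ≃ GL (Fin (Fintype.card κ)) F :=
    (Units.mapEquiv (Matrix.reindexAlgEquiv F F (Fintype.equivFin κ)).toMulEquiv).toEquiv
  rw [Nat.card_congr e, Matrix.card_GL_field, prod_pow_sub_eq _ _ Fintype.card_pos]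

theorem two_c2 (m : ℕ) : 2 * (m * (m - 1) / 2) + m = m * m := by
  have h : 2 * (m * (m - 1) / 2) = m * (m - 1) :=
    Nat.two_mul_div_two_of_even (Nat.even_mul_pred_self m)
  rw [h]
  cases m with
  | zero => rfl
  | succ k => simp only [Nat.add_sub_cancel]; ring

theorem card_fibers (b : ι → α) : ∑ a, Fintype.card {i // b i = a} = Fintype.card ι := by
  rw [← Fintype.card_sigma]
  exact Fintype.card_congr (Equiv.sigmaFiberEquiv b)

theorem card_pairs (b : ι → α) :
    2 * Fintype.card {p : ι × ι // b p.1 < b p.2} +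
      ∑ a, Fintype.card {i // b i = a} * Fintype.card {i // b i = a} =
      Fintype.card ι * Fintype.card ι := by
  classical
  have h1 : Fintype.card {p : ι × ι // b p.2 < b p.1} = Fintype.card {p : ι × ι // b p.1 < b p.2} :=
    Fintype.card_congr (Equiv.subtypeEquiv (Equiv.prodComm ι ι) (fun p => by simp))
  have h2 : Fintype.card {p : ι × ι // b p.1 = b p.2} =
      ∑ a, Fintype.card {i // b i = a} * Fintype.card {i // b i = a} := by
    simp only [← Fintype.card_prod]
    rw [← Fintype.card_sigma]
    refine Fintype.card_congr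
      { toFun := fun p => ⟨b p.1.1, ⟨⟨p.1.1, rfl⟩, ⟨p.1.2, p.2.symm⟩⟩⟩
        invFun := fun x => ⟨(x.2.1.1, x.2.2.1), x.2.1.2.trans x.2.2.2.symm⟩
        left_inv := fun p => rfl
        right_inv := ?_ }
    rintro ⟨a, ⟨⟨x, rfl⟩, ⟨y, hy⟩⟩⟩
    rfl
  have h3 : Fintype.card ι * Fintype.card ι = Fintype.card (ι × ι) := (Fintype.card_prod ι ι).symm
  rw [h3, ← h2]
  simp only [Fintype.card_subtype]
  rw [Fintype.card_subtype] at h1
  simp only [Fintype.card_subtype] at h1
  have h4 : (Finset.univ.filter fun p : ι × ι => b p.1 < b p.2).card +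
      (Finset.univ.filter fun p : ι × ι => ¬ b p.1 < b p.2).card = Fintype.card (ι × ι) := by
    rw [Finset.card_filter_add_card_filter_not]
    rfl
  have h5 : (Finset.univ.filter fun p : ι × ι => ¬ b p.1 < b p.2) =
      (Finset.univ.filter fun p : ι × ι => b p.2 < b p.1) ∪
        (Finset.univ.filter fun p : ι × ι => b p.1 = b p.2) := by
    ext p
    simp only [Finset.mem_filter, Finset.mem_univ, true_and, Finset.mem_union, not_lt]
    rw [le_iff_lt_or_eq]
    simp only [eq_comm]
  have h6 : Disjoint (Finset.univ.filter fun p : ι × ι => b p.2 < b p.1)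
      (Finset.univ.filter fun p : ι × ι => b p.1 = b p.2) := by
    rw [Finset.disjoint_filter]
    intro p _ hlt heq
    exact (ne_of_gt hlt) heq
  rw [h5, Finset.card_union_of_disjoint h6] at h4
  omega

/-- The index formula for block triangular subgroups. -/
theorem index_mul_qf [Fintype F] (b : ι → α) (P : Subgroup (GL ι F))
    (hP : ∀ g : GL ι F, g ∈ P ↔ (g : Matrix ι ι F).BlockTriangular b) :
    Nat.card (GL ι F ⧸ P) * ∏ a, qf (Fintype.card F) (Fintype.card {i // b i = a}) =
      qf (Fintype.card F) (Fintype.card ι) := by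
  classical
  set q := Fintype.card F with hq
  have hq1 : 1 < q := Fintype.one_lt_card
  have hcardP : Nat.card P = q ^ Fintype.card {p : ι × ι // b p.1 < b p.2} *
      ∏ a, Nat.card (GL {i // b i = a} F) := by
    rw [← card_blockTriangular_GL]
    exact Nat.card_congr (Equiv.subtypeEquivRight hP)
  have hmain := Subgroup.card_eq_card_quotient_mul_card_subgroup P
  rw [hcardP, card_GL_eq] at hmain
  simp only [card_GL_eq] at hmain
  rw [Finset.prod_mul_distrib, Finset.prod_mul_distrib, Finset.prod_pow_eq_pow_sum,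
    Finset.prod_pow_eq_pow_sum, card_fibers] at hmain
  have hexp : Fintype.card {p : ι × ι // b p.1 < b p.2} +
      ∑ a, Fintype.card {i // b i = a} * (Fintype.card {i // b i = a} - 1) / 2 =
      Fintype.card ι * (Fintype.card ι - 1) / 2 := by
    have h1 := two_c2 (Fintype.card ι)
    have h2 := card_pairs b
    have h3 := card_fibers b
    have h4 : 2 * (∑ a, Fintype.card {i // b i = a} * (Fintype.card {i // b i = a} - 1) / 2) +
        ∑ a, Fintype.card {i // b i = a} =
        ∑ a, Fintype.card {i // b i = a} * Fintype.card {i // b i = a} := by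
      rw [Finset.mul_sum, ← Finset.sum_add_distrib]
      exact Finset.sum_congr rfl fun a _ => two_c2 _
    omega
  rw [← hexp, pow_add] at hmain
  have hpos : 0 < q ^ Fintype.card {p : ι × ι // b p.1 < b p.2} *
      q ^ (∑ a, Fintype.card {i // b i = a} * (Fintype.card {i // b i = a} - 1) / 2) *
      (q - 1) ^ Fintype.card ι := by
    have : 0 < q - 1 := by omega
    positivity
  apply Nat.eq_of_mul_eq_mul_left hpos
  rw [hmain]
  ring

end Cfsg.Agent.Lib.Linalg.Count
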