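import Mathlib

/-!
# Regular nilpotent endomorphisms

For an endomorphism `L` of a finite-dimensional space with `L ^ dim = 0` and `dim ker L ≤ 1`, the
kernels of the powers of `L` have the expected dimensions and every invariant subspace is one
of them. In particular invariant subspaces form a chain.
-/

set_option autoImplicit false

namespace Cfsg.Agent.Lib.Linalg.RegularNilpotent

open Module

variable {F V : Type*} [Field F] [AddCommGroup V] [Module F V] [FiniteDimensional F V]

/-- `dim ker L^(k+1) ≤ dim ker L^k + dim ker L`. -/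
theorem finrank_ker_pow_succ_le (L : End F V) (k : ℕ) :
    finrank F (LinearMap.ker (L ^ (k + 1))) ≤
      finrank F (LinearMap.ker (L ^ k)) + finrank F (LinearMap.ker L) := by
  -- the map `ker L^(k+1) → V`, `v ↦ L^k v`, has range in `ker L` and kernel `ker L^k`
  let g : LinearMap.ker (L ^ (k + 1)) →ₗ[F] V := (L ^ k).comp (Submodule.subtype _)
  have h1 := LinearMap.finrank_range_add_finrank_ker g
  have h2 : LinearMap.range g ≤ LinearMap.ker L := by
    rintro _ ⟨⟨x, hx⟩, rfl⟩
    rw [LinearMap.mem_ker, pow_succ', Module.End.mul_apply] at hx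
    exact hx
  have h3 : finrank F (LinearMap.range g) ≤ finrank F (LinearMap.ker L) :=
    Submodule.finrank_mono h2
  have h4 : finrank F (LinearMap.ker g) ≤ finrank F (LinearMap.ker (L ^ k)) := by
    apply LinearMap.finrank_le_finrank_of_injective
      (f := (((LinearMap.ker (L ^ (k + 1))).subtype.comp (LinearMap.ker g).subtype).codRestrict
        (LinearMap.ker (L ^ k)) (fun v => v.2)))
    intro a b hab
    apply Subtype.ext
    apply Subtype.ext
    have h := congrArg (fun x : LinearMap.ker (L ^ k) => (x : V)) hab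
    exact h
  omega

theorem finrank_ker_pow_le (L : End F V) (h1 : finrank F (LinearMap.ker L) ≤ 1) (k : ℕ) :
    finrank F (LinearMap.ker (L ^ k)) ≤ k := by
  induction k with
  | zero => simp [Module.End.one_eq_id]
  | succ k ih =>
    have := finrank_ker_pow_succ_le L k
    omega

/-- If `L ^ dim V = 0` and `dim ker L ≤ 1`, then `dim ker L^k = k` for `k ≤ dim V`. -/
theorem finrank_ker_pow (L : End F V) (h1 : finrank F (LinearMap.ker L) ≤ 1)
    (hnil : L ^ finrank F V = 0) {k : ℕ} (hk : k ≤ finrank F V) :
    finrank F (LinearMap.ker (L ^ k)) = k := by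
  apply le_antisymm (finrank_ker_pow_le L h1 k)
  -- downward induction from `dim V`
  have key : ∀ j, j ≤ finrank F V → finrank F V ≤ finrank F (LinearMap.ker (L ^ (finrank F V - j))) + j := by
    intro j
    induction j with
    | zero =>
      intro _
      have h0 : LinearMap.ker (L ^ (finrank F V - 0)) = ⊤ := by simp [hnil]
      rw [h0]
      simp
    | succ j ih =>
      intro hj
      have h2 := ih (by omega)
      have h3 := finrank_ker_pow_succ_le L (finrank F V - (j + 1))
      have h4 : finrank F V - (j + 1) + 1 = finrank F V - j := by omega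
      rw [h4] at h3
      omega
  have := key (finrank F V - k) (by omega)
  have h5 : finrank F V - (finrank F V - k) = k := by omega
  rw [h5] at this
  omega

/-- An invariant subspace `W` of a nilpotent `L` lies in `ker L^(dim W)`. -/
theorem le_ker_pow_finrank (L : End F V) (N : ℕ) (hnil : L ^ N = 0) (W : Submodule F V)
    (hW : ∀ v ∈ W, L v ∈ W) : W ≤ LinearMap.ker (L ^ finrank F W) := by
  let L' : End F W := L.restrict hW
  have hpow : ∀ (m : ℕ) (v : W), ((L' ^ m) v : V) = (L ^ m) (v : V) := by
    intro m v
    induction m generalizing v with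
    | zero => simp
    | succ m ih =>
      rw [pow_succ, Module.End.mul_apply, ih, pow_succ, Module.End.mul_apply]
      rfl
  intro v hv
  have h1 : (⟨v, hv⟩ : W) ∈ LinearMap.ker (L' ^ N) := by
    rw [LinearMap.mem_ker]
    apply Subtype.ext
    rw [hpow]
    simp [hnil]
  have h2 := Module.End.ker_pow_le_ker_pow_finrank L' N h1
  rw [LinearMap.mem_ker] at h2 ⊢
  have h3 := congrArg Subtype.val h2
  rw [hpow] at h3
  simpa using h3

/-- Every invariant subspace of a regular nilpotent endomorphism is a kernel of a power. -/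
theorem eq_ker_pow_of_invariant (L : End F V) (h1 : finrank F (LinearMap.ker L) ≤ 1)
    (hnil : L ^ finrank F V = 0) (W : Submodule F V) (hW : ∀ v ∈ W, L v ∈ W) :
    W = LinearMap.ker (L ^ finrank F W) := by
  apply Submodule.eq_of_le_of_finrank_le (le_ker_pow_finrank L _ hnil W hW)
  rw [finrank_ker_pow L h1 hnil (Submodule.finrank_le W)]

/-- Invariant subspaces of a regular nilpotent endomorphism form a chain (by dimension). -/
theorem le_of_finrank_le_of_invariant (L : End F V) (h1 : finrank F (LinearMap.ker L) ≤ 1)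
    (hnil : L ^ finrank F V = 0) (W W' : Submodule F V) (hW : ∀ v ∈ W, L v ∈ W)
    (hW' : ∀ v ∈ W', L v ∈ W') (hle : finrank F W ≤ finrank F W') : W ≤ W' := by
  rw [eq_ker_pow_of_invariant L h1 hnil W hW, eq_ker_pow_of_invariant L h1 hnil W' hW']
  intro v hv
  rw [LinearMap.mem_ker] at hv ⊢
  obtain ⟨c, hc⟩ := Nat.exists_eq_add_of_le hle
  rw [hc, add_comm, pow_add, Module.End.mul_apply, hv, map_zero]

section Matrix

variable {ι : Type*} [Fintype ι] [DecidableEq ι]

theorem matrix_finrank_ker_le (N : Matrix ι ι F) (hreg : N.rank = Fintype.card ι - 1) :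
    finrank F (LinearMap.ker (Matrix.toLin' N)) ≤ 1 := by
  have h := LinearMap.finrank_range_add_finrank_ker (Matrix.toLin' N)
  have h2 : finrank F (LinearMap.range (Matrix.toLin' N)) = N.rank := by
    rw [Matrix.toLin'_apply']; rfl
  rw [h2, hreg, Module.finrank_fintype_fun_eq_card] at h
  omega

theorem matrix_pow_zero (N : Matrix ι ι F) (hnil : N ^ Fintype.card ι = 0) :
    (Matrix.toLin' N) ^ finrank F (ι → F) = 0 := by
  rw [Module.finrank_fintype_fun_eq_card, ← Matrix.toLin'_pow, hnil, map_zero]

theorem matrix_invariant (u : Matrix ι ι F) (W : Submodule F (ι → F))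
    (hW : ∀ v ∈ W, u.mulVec v ∈ W) : ∀ v ∈ W, (Matrix.toLin' (u - 1)) v ∈ W := by
  intro v hv
  rw [Matrix.toLin'_apply, Matrix.sub_mulVec, Matrix.one_mulVec]
  exact W.sub_mem (hW v hv) hv

/-- Matrix form: an invariant subspace of a regular unipotent `u` is the kernel of `(u-1)^dim`. -/
theorem matrix_eq_ker_pow (u : Matrix ι ι F) (hnil : (u - 1) ^ Fintype.card ι = 0)
    (hreg : (u - 1).rank = Fintype.card ι - 1) (W : Submodule F (ι → F))
    (hW : ∀ v ∈ W, u.mulVec v ∈ W) :
    W = LinearMap.ker (Matrix.mulVecLin ((u - 1) ^ finrank F W)) := by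
  have h1 := matrix_finrank_ker_le (u - 1) hreg
  have h2 := matrix_pow_zero (u - 1) hnil
  have h3 := matrix_invariant u W hW
  have h := eq_ker_pow_of_invariant (V := ι → F) (Matrix.toLin' (u - 1)) h1 h2 W h3
  rw [← Matrix.toLin'_pow, Matrix.toLin'_apply'] at h
  exact h

/-- Matrix form: invariant subspaces of a regular unipotent `u` form a chain. -/
theorem matrix_le_of_finrank_le (u : Matrix ι ι F) (hnil : (u - 1) ^ Fintype.card ι = 0)
    (hreg : (u - 1).rank = Fintype.card ι - 1) (W W' : Submodule F (ι → F))
    (hW : ∀ v ∈ W, u.mulVec v ∈ W) (hW' : ∀ v ∈ W', u.mulVec v ∈ W')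
    (hle : finrank F W ≤ finrank F W') : W ≤ W' :=
  le_of_finrank_le_of_invariant (V := ι → F) (Matrix.toLin' (u - 1))
    (matrix_finrank_ker_le (u - 1) hreg) (matrix_pow_zero (u - 1) hnil) W W'
    (matrix_invariant u W hW) (matrix_invariant u W' hW') hle

end Matrix

end Cfsg.Agent.Lib.Linalg.RegularNilpotent
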