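import Mathlib
import Cfsg.Agent.Lib.Linalg.RegularNilpotent

/-!
# The commutant of a regular nilpotent matrix

For `N : Matrix (Fin (m+1)) (Fin (m+1)) F` with `N^(m+1) = 0` and `rank N = m` there is a cyclic
vector; every matrix commuting with `N` is uniquely a polynomial in `N` of degree `≤ m`, and this
polynomial is invertible iff its constant term is non-zero.
-/

set_option autoImplicit false

namespace Cfsg.Agent.Lib.Linalg.RegularCentralizer

open Matrix Module
open scoped MatrixGroups

variable {F : Type*} [Field F] {m : ℕ} (N : Matrix (Fin (m + 1)) (Fin (m + 1)) F)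

theorem exists_cyclic_vector (hnil : N ^ (m + 1) = 0) (hreg : N.rank = m) :
    ∃ v : Fin (m + 1) → F, (N ^ m) *ᵥ v ≠ 0 := by
  by_contra hcon
  push Not at hcon
  have h1 := RegularNilpotent.matrix_finrank_ker_le N (by simpa using hreg)
  have h2 := RegularNilpotent.matrix_pow_zero N (by simpa using hnil)
  have hdim : finrank F (Fin (m + 1) → F) = m + 1 := by simp
  have h3 := RegularNilpotent.finrank_ker_pow (Matrix.toLin' N) h1 h2 (k := m) (by omega)
  have h4 : LinearMap.ker ((Matrix.toLin' N) ^ m) = ⊤ := by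
    rw [LinearMap.ker_eq_top, ← Matrix.toLin'_pow]
    apply LinearMap.ext
    intro w
    rw [LinearMap.zero_apply, Matrix.toLin'_apply]
    exact hcon w
  rw [h4, finrank_top, hdim] at h3
  omega

/-- The powers of `N` applied to a cyclic vector are independent. -/
theorem linearIndependent_powers (hnil : N ^ (m + 1) = 0) {v : Fin (m + 1) → F}
    (hv : (N ^ m) *ᵥ v ≠ 0) :
    LinearIndependent F (fun i : Fin (m + 1) => (N ^ (i : ℕ)) *ᵥ v) := by
  rw [Fintype.linearIndependent_iff]
  intro g hg
  have key : ∀ k (hk : k < m + 1), g ⟨k, hk⟩ = 0 := by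
    intro k
    induction k using Nat.strong_induction_on with
    | _ k ih =>
      intro hk
      have h1 : (N ^ (m - k)) *ᵥ (∑ i : Fin (m + 1), g i • (N ^ (i : ℕ)) *ᵥ v) = 0 := by
        rw [hg, Matrix.mulVec_zero]
      rw [Matrix.mulVec_sum, Finset.sum_eq_single (⟨k, hk⟩ : Fin (m + 1))] at h1
      · rw [Matrix.mulVec_smul, Matrix.mulVec_mulVec, ← pow_add] at h1
        have h2 : m - k + k = m := by omega
        simp only [h2] at h1
        exact (smul_eq_zero.1 h1).resolve_right hv
      · intro i _ hi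
        have hi' : (i : ℕ) ≠ k := fun h => hi (Fin.ext h)
        rcases lt_or_gt_of_ne hi' with hlt | hgt
        · have : g i = 0 := ih i hlt i.2
          rw [this, zero_smul, Matrix.mulVec_zero]
        · rw [Matrix.mulVec_smul, Matrix.mulVec_mulVec, ← pow_add,
            pow_eq_zero_of_le (by omega) hnil, Matrix.zero_mulVec, smul_zero]
      · intro h
        exact absurd (Finset.mem_univ _) h
  intro i
  exact key i i.2

/-- The polynomial in `N` with coefficients `f`. -/
noncomputable def polyOf (f : Fin (m + 1) → F) : Matrix (Fin (m + 1)) (Fin (m + 1)) F :=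
  ∑ i : Fin (m + 1), f i • N ^ (i : ℕ)

theorem polyOf_commute (f : Fin (m + 1) → F) : Commute N (polyOf N f) := by
  unfold polyOf
  apply Commute.sum_right
  intro i _
  exact (Commute.pow_right (Commute.refl N) _).smul_right _

theorem polyOf_mulVec (f : Fin (m + 1) → F) (v : Fin (m + 1) → F) :
    polyOf N f *ᵥ v = ∑ i : Fin (m + 1), f i • (N ^ (i : ℕ)) *ᵥ v := by
  unfold polyOf
  rw [Matrix.sum_mulVec]
  simp [Matrix.smul_mulVec]

/-- The basis made of a cyclic vector and its images. -/
noncomputable def cycBasis (hnil : N ^ (m + 1) = 0) {v : Fin (m + 1) → F} (hv : (N ^ m) *ᵥ v ≠ 0) :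
    Basis (Fin (m + 1)) F (Fin (m + 1) → F) :=
  basisOfLinearIndependentOfCardEqFinrank (linearIndependent_powers N hnil hv) (by simp)

theorem cycBasis_apply (hnil : N ^ (m + 1) = 0) {v : Fin (m + 1) → F} (hv : (N ^ m) *ᵥ v ≠ 0)
    (i : Fin (m + 1)) : cycBasis N hnil hv i = (N ^ (i : ℕ)) *ᵥ v := by
  simp [cycBasis]

/-- Every matrix commuting with `N` is a polynomial in `N`. -/
theorem exists_polyOf_of_commute (hnil : N ^ (m + 1) = 0) {v : Fin (m + 1) → F}
    (hv : (N ^ m) *ᵥ v ≠ 0) {M : Matrix (Fin (m + 1)) (Fin (m + 1)) F} (hM : Commute N M) :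
    ∃ f, M = polyOf N f := by
  classical
  set b := cycBasis N hnil hv with hb
  refine ⟨b.repr (M *ᵥ v), ?_⟩
  set f := b.repr (M *ᵥ v) with hf
  have h0 : M *ᵥ v = polyOf N f *ᵥ v := by
    rw [polyOf_mulVec]
    conv_lhs => rw [← b.sum_repr (M *ᵥ v)]
    refine Finset.sum_congr rfl fun i _ => ?_
    rw [hb, cycBasis_apply]
  apply Matrix.toLin'.injective
  apply b.ext
  intro j
  rw [hb, cycBasis_apply, Matrix.toLin'_apply, Matrix.toLin'_apply, Matrix.mulVec_mulVec,
    Matrix.mulVec_mulVec]
  have h1 : M * N ^ (j : ℕ) = N ^ (j : ℕ) * M := ((hM.pow_left _).eq).symm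
  have h2 : polyOf N f * N ^ (j : ℕ) = N ^ (j : ℕ) * polyOf N f :=
    (((polyOf_commute N f).pow_left _).eq).symm
  rw [h1, h2, ← Matrix.mulVec_mulVec, ← Matrix.mulVec_mulVec, h0]

/-- The coefficients of a polynomial in `N` are determined. -/
theorem polyOf_injective (hnil : N ^ (m + 1) = 0) {v : Fin (m + 1) → F} (hv : (N ^ m) *ᵥ v ≠ 0) :
    Function.Injective (polyOf N) := by
  intro f g h
  have h1 := congrArg (fun M => M *ᵥ v) h
  simp only [polyOf_mulVec] at h1
  have h2 : ∑ i, (f i - g i) • (N ^ (i : ℕ)) *ᵥ v = 0 := by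
    simp only [sub_smul, Finset.sum_sub_distrib, h1, sub_self]
  have h3 := Fintype.linearIndependent_iff.1 (linearIndependent_powers N hnil hv) _ h2
  funext i
  exact sub_eq_zero.1 (h3 i)

/-- Splitting the constant term. -/
theorem polyOf_eq (f : Fin (m + 1) → F) :
    polyOf N f = f 0 • 1 + N * ∑ i : Fin m, f i.succ • N ^ (i : ℕ) := by
  unfold polyOf
  rw [Fin.sum_univ_succ, Finset.mul_sum]
  simp [mul_smul_comm, pow_succ']

theorem commute_tail (f : Fin (m + 1) → F) : Commute N (∑ i : Fin m, f i.succ • N ^ (i : ℕ)) := by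
  apply Commute.sum_right
  intro i _
  exact (Commute.pow_right (Commute.refl N) _).smul_right _

theorem isUnit_polyOf_iff (hnil : N ^ (m + 1) = 0) (f : Fin (m + 1) → F) :
    IsUnit (polyOf N f) ↔ f 0 ≠ 0 := by
  constructor
  · intro hu h0
    rw [polyOf_eq, h0, zero_smul, zero_add] at hu
    have hdet := (Matrix.isUnit_iff_isUnit_det _).1 hu
    rw [Matrix.det_mul] at hdet
    have hN : N.det = 0 := by
      have : N.det ^ (m + 1) = 0 := by rw [← Matrix.det_pow, hnil, Matrix.det_zero]
      exact pow_eq_zero_iff (by omega) |>.1 this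
    rw [hN, zero_mul] at hdet
    exact not_isUnit_zero hdet
  · intro h0
    rw [polyOf_eq]
    have hu : IsUnit (f 0 • (1 : Matrix (Fin (m + 1)) (Fin (m + 1)) F)) := by
      have := (isUnit_iff_ne_zero.2 h0).map (algebraMap F (Matrix (Fin (m + 1)) (Fin (m + 1)) F))
      rwa [Algebra.algebraMap_eq_smul_one] at this
    have hnilp : IsNilpotent (N * ∑ i : Fin m, f i.succ • N ^ (i : ℕ)) :=
      (commute_tail N f).isNilpotent_mul_right ⟨m + 1, hnil⟩
    exact IsNilpotent.isUnit_add_left_of_commute hnilp hu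
      ((Commute.smul_right (Commute.one_right _) _))

/-- The centraliser in `GL` of a regular nilpotent matrix `N`, counted: commuting with `u = 1 + N`. -/
theorem card_centralizer [Fintype F] (u : GL (Fin (m + 1)) F)
    (hnil : ((u : Matrix (Fin (m + 1)) (Fin (m + 1)) F) - 1) ^ (m + 1) = 0)
    (hreg : ((u : Matrix (Fin (m + 1)) (Fin (m + 1)) F) - 1).rank = m) :
    Nat.card (Subgroup.centralizer ({u} : Set (GL (Fin (m + 1)) F))) =
      (Fintype.card F - 1) * Fintype.card F ^ m := by
  classical
  set N : Matrix (Fin (m + 1)) (Fin (m + 1)) F := (u : Matrix (Fin (m + 1)) (Fin (m + 1)) F) - 1 with hN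
  obtain ⟨v, hv⟩ := exists_cyclic_vector N hnil hreg
  have hcomm : ∀ x : GL (Fin (m + 1)) F, x ∈ Subgroup.centralizer ({u} : Set (GL (Fin (m + 1)) F)) ↔
      Commute N (x : Matrix (Fin (m + 1)) (Fin (m + 1)) F) := by
    intro x
    rw [Subgroup.mem_centralizer_singleton_iff, hN]
    constructor
    · intro h
      have h1 : (x : Matrix (Fin (m + 1)) (Fin (m + 1)) F) * (u : Matrix (Fin (m + 1)) (Fin (m + 1)) F) =
          (u : Matrix (Fin (m + 1)) (Fin (m + 1)) F) * (x : Matrix (Fin (m + 1)) (Fin (m + 1)) F) := by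
        have := congrArg Units.val h
        simpa using this
      exact (Commute.sub_left (Commute.symm h1) (Commute.one_left _))
    · intro h
      have h1 : Commute (u : Matrix (Fin (m + 1)) (Fin (m + 1)) F) (x : Matrix (Fin (m + 1)) (Fin (m + 1)) F) := by
        have := h.add_left (Commute.one_left (x : Matrix (Fin (m + 1)) (Fin (m + 1)) F))
        simpa using this
      apply Units.ext
      simpa using h1.eq.symm
  let cons : Fˣ × (Fin m → F) → (Fin (m + 1) → F) := fun p => Fin.cons (p.1 : F) p.2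
  have hcons0 : ∀ p, cons p 0 ≠ 0 := fun p => by simp [cons]
  let φ : Fˣ × (Fin m → F) → Subgroup.centralizer ({u} : Set (GL (Fin (m + 1)) F)) := fun p =>
    ⟨((isUnit_polyOf_iff N hnil (cons p)).2 (hcons0 p)).unit, by
      rw [hcomm]
      exact polyOf_commute N _⟩
  have hφ : Function.Bijective φ := by
    constructor
    · intro p p' h
      have h1 : polyOf N (cons p) = polyOf N (cons p') :=
        congrArg (fun z : Subgroup.centralizer ({u} : Set (GL (Fin (m + 1)) F)) =>
          ((z.1 : GL (Fin (m + 1)) F) : Matrix (Fin (m + 1)) (Fin (m + 1)) F)) h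
      have h2 := polyOf_injective N hnil hv h1
      have h3 := (Fin.cons_inj.1 h2)
      exact Prod.ext (Units.ext h3.1) h3.2
    · rintro ⟨x, hx⟩
      have hx' := (hcomm x).1 hx
      obtain ⟨f, hf⟩ := exists_polyOf_of_commute N hnil hv hx'
      have hf0 : f 0 ≠ 0 := by
        apply (isUnit_polyOf_iff N hnil f).1
        rw [← hf]
        exact x.isUnit
      refine ⟨(Units.mk0 _ hf0, Fin.tail f), ?_⟩
      apply Subtype.ext
      apply Units.ext
      have hc : cons (Units.mk0 _ hf0, Fin.tail f) = f := by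
        simp [cons, Fin.cons_self_tail]
      show polyOf N (cons (Units.mk0 _ hf0, Fin.tail f)) = _
      rw [hc]
      exact hf.symm
  rw [← Nat.card_congr (Equiv.ofBijective φ hφ), Nat.card_prod, Nat.card_units, Nat.card_fun]
  simp [Nat.card_eq_fintype_card]

end Cfsg.Agent.Lib.Linalg.RegularCentralizer
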