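import Mathlib
import Cfsg.Agent.Lib.Linalg.RegularCentralizer
import Cfsg.Agent.Lib.Linalg.Unipotent

/-!
# Regular unipotent elements: the shift matrix, one `GL`-class, `gcd(n, q-1)` `SL`-classes
-/

set_option autoImplicit false

namespace Cfsg.Agent.Lib.Linalg.RegularClasses

open Matrix Module
open scoped MatrixGroups
open Cfsg.Agent.Lib.Linalg.RegularCentralizer

section DetNil

variable {F : Type*} [Field F] {ι : Type*} [Fintype ι] [DecidableEq ι]

/-- `det (a + R) = a^n` for `R` nilpotent. -/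
theorem det_smul_one_add_of_isNilpotent (a : F) {R : Matrix ι ι F} (hR : IsNilpotent R) :
    (a • (1 : Matrix ι ι F) + R).det = a ^ Fintype.card ι := by
  have h1 : IsNilpotent (-R) := hR.neg
  have h2 : (-R).charpoly = Polynomial.X ^ Fintype.card ι := by
    rw [← sub_eq_zero]
    exact IsNilpotent.eq_zero (Matrix.isNilpotent_charpoly_sub_pow_of_isNilpotent h1)
  have h3 := Matrix.eval_charpoly (-R) a
  rw [h2] at h3
  have h4 : Matrix.scalar ι a - -R = a • (1 : Matrix ι ι F) + R := by
    rw [sub_neg_eq_add]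
    congr 1
    ext i j
    simp [Matrix.scalar_apply, Matrix.diagonal_apply, Matrix.one_apply]
  rw [h4] at h3
  rw [← h3]
  simp

/-- Unipotent matrices have determinant one. -/
theorem det_one_add_of_isNilpotent {R : Matrix ι ι F} (hR : IsNilpotent R) :
    (1 + R).det = 1 := by
  have := det_smul_one_add_of_isNilpotent (1 : F) hR
  simpa using this

end DetNil

section Shift

variable (F : Type*) [Field F] (m : ℕ)

/-- The lower shift matrix: `e_j ↦ e_{j+1}`, `e_m ↦ 0`. -/
def shift : Matrix (Fin (m + 1)) (Fin (m + 1)) F :=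
  Matrix.of fun i j => if (j : ℕ) + 1 = i then 1 else 0

theorem shift_apply (i j : Fin (m + 1)) : shift F m i j = if (j : ℕ) + 1 = i then 1 else 0 := rfl

theorem shift_eq_transpose : shift F m = (Unipotent.jordanNil F (m + 1)).transpose := by
  ext i j
  simp [shift_apply, Unipotent.jordanNil_apply]

theorem shift_pow_card : shift F m ^ (m + 1) = 0 := by
  rw [shift_eq_transpose, ← Matrix.transpose_pow, Unipotent.jordanNil_pow_card, Matrix.transpose_zero]

theorem shift_isNilpotent : IsNilpotent (shift F m) := ⟨m + 1, shift_pow_card F m⟩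

theorem shift_mulVec_succ (w : Fin (m + 1) → F) (j : Fin m) :
    (shift F m *ᵥ w) j.succ = w j.castSucc := by
  rw [Matrix.mulVec, dotProduct, Finset.sum_eq_single j.castSucc]
  · simp [shift_apply]
  · intro b _ hb
    have : ¬ ((b : ℕ) = (j : ℕ)) := fun h => hb (Fin.ext (by simpa using h))
    simp [shift_apply, this]
  · simp

theorem shift_rank : (shift F m).rank = m := by
  classical
  have h := LinearMap.finrank_range_add_finrank_ker (Matrix.toLin' (shift F m))
  have h2 : finrank F (LinearMap.range (Matrix.toLin' (shift F m))) = (shift F m).rank := by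
    rw [Matrix.toLin'_apply']; rfl
  have hlast : Matrix.toLin' (shift F m) (Pi.single (Fin.last m) 1) = 0 := by
    rw [Matrix.toLin'_apply]
    ext i
    rw [Matrix.mulVec_single_one]
    simp only [Matrix.col_apply, shift_apply, Pi.zero_apply]
    rw [if_neg]
    have := i.2
    simp only [Fin.val_last]
    omega
  have hne : (Pi.single (Fin.last m) 1 : Fin (m + 1) → F) ≠ 0 := by
    intro h0
    have := congrFun h0 (Fin.last m)
    simp at this
  have hk : finrank F (LinearMap.ker (Matrix.toLin' (shift F m))) = 1 := by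
    refine finrank_eq_one (⟨Pi.single (Fin.last m) 1, hlast⟩ : LinearMap.ker (Matrix.toLin' (shift F m)))
      (by simpa [Subtype.ext_iff] using hne) ?_
    rintro ⟨w, hw⟩
    refine ⟨w (Fin.last m), ?_⟩
    apply Subtype.ext
    funext i
    simp only [Submodule.coe_smul, Pi.smul_apply, Pi.single_apply, smul_eq_mul]
    by_cases hi : i = Fin.last m
    · subst hi
      simp
    · simp only [hi, if_false, mul_zero]
      have hlt : (i : ℕ) < m := by
        have h1 := i.2
        have : (i : ℕ) ≠ m := fun h => hi (Fin.ext h)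
        omega
      have h3 := shift_mulVec_succ F m w ⟨i, hlt⟩
      have h4 : shift F m *ᵥ w = 0 := by
        rw [LinearMap.mem_ker, Matrix.toLin'_apply] at hw
        exact hw
      rw [h4] at h3
      have h5 : (⟨(i : ℕ), hlt⟩ : Fin m).castSucc = i := Fin.ext rfl
      rw [h5] at h3
      exact (by simpa using h3.symm : w i = 0).symm
  rw [h2, hk, Module.finrank_fin_fun] at h
  omega

end Shift

section Conj

variable {F : Type*} [Field F] {m : ℕ}

/-- Every regular nilpotent matrix is conjugate to the shift. -/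
theorem exists_conj_shift {N : Matrix (Fin (m + 1)) (Fin (m + 1)) F} (hnil : N ^ (m + 1) = 0)
    (hreg : N.rank = m) : ∃ P : Matrix (Fin (m + 1)) (Fin (m + 1)) F, IsUnit P ∧ N * P = P * shift F m := by
  obtain ⟨v, hv⟩ := exists_cyclic_vector N hnil hreg
  let P : Matrix (Fin (m + 1)) (Fin (m + 1)) F := Matrix.of fun i j => ((N ^ (j : ℕ)) *ᵥ v) i
  refine ⟨P, ?_, ?_⟩
  · apply Matrix.linearIndependent_cols_iff_isUnit.1
    exact linearIndependent_powers N hnil hv
  · ext i j
    have hL : (N * P) i j = ((N ^ ((j : ℕ) + 1)) *ᵥ v) i := by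
      rw [pow_succ', ← Matrix.mulVec_mulVec]
      rfl
    rw [hL, Matrix.mul_apply]
    by_cases hj : (j : ℕ) + 1 < m + 1
    · rw [Finset.sum_eq_single (⟨(j : ℕ) + 1, hj⟩ : Fin (m + 1))]
      · simp [P, shift_apply]
      · intro b _ hb
        have : ¬ ((j : ℕ) + 1 = b) := fun h => hb (Fin.ext h.symm)
        simp [shift_apply, this]
      · simp
    · have hj' : (j : ℕ) + 1 = m + 1 := by have := j.2; omega
      rw [hj', hnil, Matrix.zero_mulVec]
      symm
      apply Finset.sum_eq_zero
      intro b _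
      have : ¬ ((j : ℕ) + 1 = b) := by have := b.2; omega
      simp [shift_apply, this]

end Conj

section Classes

variable {F : Type*} [Field F] {m : ℕ}

/-- The reference regular unipotent element. -/
noncomputable def U₀ (F : Type*) [Field F] (m : ℕ) : GL (Fin (m + 1)) F :=
  (IsNilpotent.isUnit_one_add (shift_isNilpotent F m)).unit

theorem coe_U₀ : (U₀ F m : Matrix (Fin (m + 1)) (Fin (m + 1)) F) = 1 + shift F m := rfl

theorem det_U₀ : (U₀ F m : Matrix (Fin (m + 1)) (Fin (m + 1)) F).det = 1 := by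
  rw [coe_U₀]
  exact det_one_add_of_isNilpotent (shift_isNilpotent F m)

/-- The conjugate `g U₀ g⁻¹`, an element of `SL`. -/
noncomputable def conjElt (g : GL (Fin (m + 1)) F) : SpecialLinearGroup (Fin (m + 1)) F :=
  ⟨((g * U₀ F m * g⁻¹ : GL (Fin (m + 1)) F) : Matrix (Fin (m + 1)) (Fin (m + 1)) F), by
    rw [Units.val_mul, Units.val_mul, Matrix.det_units_conj, det_U₀]⟩

theorem toGL_conjElt (g : GL (Fin (m + 1)) F) :
    SpecialLinearGroup.toGL (conjElt g) = g * U₀ F m * g⁻¹ := by
  apply Units.ext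
  rfl

theorem coe_conjElt_sub_one (g : GL (Fin (m + 1)) F) :
    ((conjElt g : SpecialLinearGroup (Fin (m + 1)) F) : Matrix (Fin (m + 1)) (Fin (m + 1)) F) - 1 =
      (g : Matrix (Fin (m + 1)) (Fin (m + 1)) F) * shift F m *
        ((g⁻¹ : GL (Fin (m + 1)) F) : Matrix (Fin (m + 1)) (Fin (m + 1)) F) := by
  have h1 : (g : Matrix (Fin (m + 1)) (Fin (m + 1)) F) *
      ((g⁻¹ : GL (Fin (m + 1)) F) : Matrix (Fin (m + 1)) (Fin (m + 1)) F) = 1 := by
    rw [← Units.val_mul, mul_inv_cancel]; rfl
  have h2 : ((conjElt g : SpecialLinearGroup (Fin (m + 1)) F) : Matrix (Fin (m + 1)) (Fin (m + 1)) F) =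
      (g : Matrix (Fin (m + 1)) (Fin (m + 1)) F) * (1 + shift F m) *
        ((g⁻¹ : GL (Fin (m + 1)) F) : Matrix (Fin (m + 1)) (Fin (m + 1)) F) := rfl
  rw [h2, Matrix.mul_add, Matrix.add_mul, Matrix.mul_one, h1, add_sub_cancel_left]

theorem conjElt_regular (g : GL (Fin (m + 1)) F) :
    (((conjElt g : SpecialLinearGroup (Fin (m + 1)) F) : Matrix (Fin (m + 1)) (Fin (m + 1)) F) - 1) ^ (m + 1) = 0 ∧
    (((conjElt g : SpecialLinearGroup (Fin (m + 1)) F) : Matrix (Fin (m + 1)) (Fin (m + 1)) F) - 1).rank = m := by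
  rw [coe_conjElt_sub_one]
  constructor
  · rw [Units.conj_pow, shift_pow_card]
    simp
  · have h1 : IsUnit (g : Matrix (Fin (m + 1)) (Fin (m + 1)) F).det :=
      (Matrix.isUnit_iff_isUnit_det _).1 g.isUnit
    have h2 : IsUnit ((g⁻¹ : GL (Fin (m + 1)) F) : Matrix (Fin (m + 1)) (Fin (m + 1)) F).det :=
      (Matrix.isUnit_iff_isUnit_det _).1 (g⁻¹).isUnit
    rw [Matrix.rank_mul_eq_left_of_isUnit_det _ _ h2, Matrix.rank_mul_eq_right_of_isUnit_det _ _ h1,
      shift_rank]

/-- Every regular unipotent element of `SL` is `conjElt g` for some `g`. -/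
theorem exists_eq_conjElt (u : SpecialLinearGroup (Fin (m + 1)) F)
    (h1 : ((u : Matrix (Fin (m + 1)) (Fin (m + 1)) F) - 1) ^ (m + 1) = 0)
    (h2 : ((u : Matrix (Fin (m + 1)) (Fin (m + 1)) F) - 1).rank = m) :
    ∃ g : GL (Fin (m + 1)) F, conjElt g = u := by
  obtain ⟨P, hP, hP'⟩ := exists_conj_shift h1 h2
  refine ⟨hP.unit, ?_⟩
  apply SpecialLinearGroup.toGL_injective
  rw [toGL_conjElt, mul_inv_eq_iff_eq_mul]
  apply Units.ext
  have hg : ((hP.unit : GL (Fin (m + 1)) F) : Matrix (Fin (m + 1)) (Fin (m + 1)) F) = P := rfl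
  rw [Units.val_mul, Units.val_mul, hg, coe_U₀, SpecialLinearGroup.coe_GL_coe_matrix]
  have : (u : Matrix (Fin (m + 1)) (Fin (m + 1)) F) * P = P + P * shift F m := by
    rw [← hP', sub_mul, one_mul, add_sub_cancel]
  rw [this, Matrix.mul_add, Matrix.mul_one]

/-- Determinants of elements centralising `U₀` are `(m+1)`-th powers. -/
theorem exists_det_eq_pow_of_commute [Fintype F] (c : GL (Fin (m + 1)) F) (hc : c * U₀ F m = U₀ F m * c) :
    ∃ e : Fˣ, Matrix.GeneralLinearGroup.det c = e ^ (m + 1) := by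
  classical
  have hcomm : Commute (shift F m) (c : Matrix (Fin (m + 1)) (Fin (m + 1)) F) := by
    have h1 : (c : Matrix (Fin (m + 1)) (Fin (m + 1)) F) * (1 + shift F m) =
        (1 + shift F m) * (c : Matrix (Fin (m + 1)) (Fin (m + 1)) F) := by
      have := congrArg Units.val hc
      simpa [Units.val_mul, coe_U₀] using this
    have h2 : shift F m * (c : Matrix (Fin (m + 1)) (Fin (m + 1)) F) =
        (c : Matrix (Fin (m + 1)) (Fin (m + 1)) F) * shift F m := by
      rw [Matrix.mul_add, Matrix.add_mul, Matrix.mul_one, Matrix.one_mul] at h1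
      exact (add_left_cancel h1).symm
    exact h2
  obtain ⟨v, hv⟩ := exists_cyclic_vector (shift F m) (shift_pow_card F m) (shift_rank F m)
  obtain ⟨f, hf⟩ := exists_polyOf_of_commute (shift F m) (shift_pow_card F m) hv hcomm
  have hf0 : f 0 ≠ 0 := by
    apply (isUnit_polyOf_iff (shift F m) (shift_pow_card F m) f).1
    rw [← hf]
    exact c.isUnit
  refine ⟨Units.mk0 _ hf0, ?_⟩
  apply Units.ext
  rw [Matrix.GeneralLinearGroup.val_det_apply, hf, polyOf_eq, det_smul_one_add_of_isNilpotent]
  · simp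
  · exact (commute_tail (shift F m) f).isNilpotent_mul_right (shift_isNilpotent F m)

/-- The two `SL`-conjugates `conjElt g`, `conjElt h` are conjugate iff `det g / det h` is an
`(m+1)`-th power. -/
theorem isConj_conjElt_iff [Fintype F] (g h : GL (Fin (m + 1)) F) :
    IsConj (conjElt g) (conjElt h) ↔
      (Matrix.GeneralLinearGroup.det g)⁻¹ * Matrix.GeneralLinearGroup.det h ∈
        (powMonoidHom (m + 1) : Fˣ →* Fˣ).range := by
  classical
  constructor
  · intro hc
    obtain ⟨s, hs⟩ := isConj_iff.1 hc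
    have hs' : SpecialLinearGroup.toGL s * (g * U₀ F m * g⁻¹) * (SpecialLinearGroup.toGL s)⁻¹ =
        h * U₀ F m * h⁻¹ := by
      have := congrArg SpecialLinearGroup.toGL hs
      simpa [toGL_conjElt] using this
    set c : GL (Fin (m + 1)) F := h⁻¹ * SpecialLinearGroup.toGL s * g with hc'
    have hcc : c * U₀ F m = U₀ F m * c := by
      have h1 : SpecialLinearGroup.toGL s * g * U₀ F m * (SpecialLinearGroup.toGL s * g)⁻¹ =
          h * U₀ F m * h⁻¹ := by
        rw [← hs']
        group
      have h2 : c * U₀ F m * c⁻¹ = U₀ F m := by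
        rw [hc']
        calc h⁻¹ * SpecialLinearGroup.toGL s * g * U₀ F m * (h⁻¹ * SpecialLinearGroup.toGL s * g)⁻¹
            = h⁻¹ * (SpecialLinearGroup.toGL s * g * U₀ F m * (SpecialLinearGroup.toGL s * g)⁻¹) * h := by group
          _ = U₀ F m := by rw [h1]; group
      rw [mul_inv_eq_iff_eq_mul] at h2
      exact h2
    obtain ⟨e, he⟩ := exists_det_eq_pow_of_commute c hcc
    refine ⟨e⁻¹, ?_⟩
    have hd : Matrix.GeneralLinearGroup.det c =
        (Matrix.GeneralLinearGroup.det h)⁻¹ * Matrix.GeneralLinearGroup.det g := by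
      rw [hc', map_mul, map_mul, map_inv, SpecialLinearGroup.coeToGL_det, mul_one]
    rw [he] at hd
    simp only [powMonoidHom_apply, inv_pow]
    rw [hd, _root_.mul_inv_rev, inv_inv]
  · rintro ⟨e, he⟩
    simp only [powMonoidHom_apply] at he
    let c : GL (Fin (m + 1)) F := Matrix.GeneralLinearGroup.scalar (Fin (m + 1)) e
    have hdc : Matrix.GeneralLinearGroup.det c = e ^ (m + 1) := by
      have := Matrix.GeneralLinearGroup.det_scalar (n := Fin (m + 1)) e
      rw [Fintype.card_fin] at this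
      exact this
    have hcU : c⁻¹ * U₀ F m = U₀ F m * c⁻¹ := by
      have : Commute c (U₀ F m) := by
        apply Units.ext
        exact (Matrix.scalar_commute (e : F) (fun r' => mul_comm _ _) _)
      exact (this.inv_left).eq
    set s₀ : GL (Fin (m + 1)) F := h * c⁻¹ * g⁻¹ with hs₀
    have hds : (s₀ : Matrix (Fin (m + 1)) (Fin (m + 1)) F).det = 1 := by
      have : Matrix.GeneralLinearGroup.det s₀ = 1 := by
        rw [hs₀, map_mul, map_mul, map_inv, map_inv, hdc, he, _root_.mul_inv_rev, inv_inv]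
        group
      have h2 := congrArg Units.val this
      simpa [Matrix.GeneralLinearGroup.val_det_apply] using h2
    let s : SpecialLinearGroup (Fin (m + 1)) F := ⟨s₀, hds⟩
    have hsGL : SpecialLinearGroup.toGL s = s₀ := by
      apply Units.ext
      rfl
    apply isConj_iff.2
    refine ⟨s, ?_⟩
    apply SpecialLinearGroup.toGL_injective
    rw [map_mul, map_mul, map_inv, toGL_conjElt, toGL_conjElt, hsGL]
    calc s₀ * (g * U₀ F m * g⁻¹) * s₀⁻¹ = h * (c⁻¹ * U₀ F m) * c * h⁻¹ := by
          rw [hs₀]; group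
      _ = h * U₀ F m * h⁻¹ := by rw [hcU]; group

/-- The number of values of a map controlled by a quotient of a group. -/
theorem card_of_quotient_control {X Y Z : Type*} [Group Z] (H : Subgroup Z) (κ : X → Y) (δ : X → Z)
    (hκ : Function.Surjective κ) (hδ : Function.Surjective δ)
    (hk : ∀ x y, κ x = κ y ↔ (δ x)⁻¹ * δ y ∈ H) : Nat.card Y = H.index := by
  classical
  let φ : Y → Z ⧸ H := fun y => QuotientGroup.mk (δ (Function.surjInv hκ y))
  have hφ : Function.Bijective φ := by
    constructor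
    · intro y y' h
      have h1 := QuotientGroup.eq.1 h
      have h2 := (hk _ _).2 h1
      rwa [Function.surjInv_eq hκ, Function.surjInv_eq hκ] at h2
    · intro z
      obtain ⟨z', rfl⟩ := QuotientGroup.mk_surjective z
      obtain ⟨x, rfl⟩ := hδ z'
      refine ⟨κ x, ?_⟩
      apply QuotientGroup.eq.2
      apply (hk _ _).1
      rw [Function.surjInv_eq hκ]
  exact Nat.card_congr (Equiv.ofBijective φ hφ)

/-- The index of the subgroup of `n`-th powers in `Fˣ`. -/
theorem index_powMonoidHom_range [Fintype F] (n : ℕ) :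
    ((powMonoidHom n : Fˣ →* Fˣ).range).index = Nat.gcd n (Fintype.card F - 1) := by
  classical
  have hc : Nat.card Fˣ = Fintype.card F - 1 := by
    rw [Nat.card_units, Nat.card_eq_fintype_card]
  have h1 := IsCyclic.card_powMonoidHom_range (G := Fˣ) n
  have h2 := Subgroup.card_mul_index ((powMonoidHom n : Fˣ →* Fˣ).range)
  rw [h1] at h2
  have hpos : 0 < Nat.card Fˣ := Nat.card_pos
  have hg : 0 < Nat.card Fˣ / (Nat.card Fˣ).gcd n :=
    Nat.div_pos (Nat.le_of_dvd hpos (Nat.gcd_dvd_left _ _)) (Nat.gcd_pos_of_pos_left _ hpos)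
  have h4 : Nat.card Fˣ / (Nat.card Fˣ).gcd n * (Nat.card Fˣ).gcd n = Nat.card Fˣ :=
    Nat.div_mul_cancel (Nat.gcd_dvd_left _ _)
  rw [Nat.gcd_comm n, ← hc]
  apply Nat.eq_of_mul_eq_mul_left hg
  rw [h2, h4]

/-- The main theorem: regular unipotent elements of `SL_{m+1}` form `gcd(m+1, q-1)` classes. -/
theorem card_regular_classes [Fintype F] :
    Nat.card {C : ConjClasses (SpecialLinearGroup (Fin (m + 1)) F) //
      ∃ u : SpecialLinearGroup (Fin (m + 1)) F, ConjClasses.mk u = C ∧
        ((u : Matrix (Fin (m + 1)) (Fin (m + 1)) F) - 1) ^ (m + 1) = 0 ∧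
        ((u : Matrix (Fin (m + 1)) (Fin (m + 1)) F) - 1).rank = m} =
      Nat.gcd (m + 1) (Fintype.card F - 1) := by
  classical
  rw [← index_powMonoidHom_range]
  apply card_of_quotient_control _
    (fun g : GL (Fin (m + 1)) F => (⟨ConjClasses.mk (conjElt g), conjElt g, rfl, (conjElt_regular g).1,
      (conjElt_regular g).2⟩ : {C : ConjClasses (SpecialLinearGroup (Fin (m + 1)) F) //
      ∃ u : SpecialLinearGroup (Fin (m + 1)) F, ConjClasses.mk u = C ∧
        ((u : Matrix (Fin (m + 1)) (Fin (m + 1)) F) - 1) ^ (m + 1) = 0 ∧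
        ((u : Matrix (Fin (m + 1)) (Fin (m + 1)) F) - 1).rank = m}))
    (fun g : GL (Fin (m + 1)) F => Matrix.GeneralLinearGroup.det g)
  · rintro ⟨C, u, rfl, h1, h2⟩
    obtain ⟨g, rfl⟩ := exists_eq_conjElt u h1 h2
    exact ⟨g, rfl⟩
  · exact Matrix.GeneralLinearGroup.det_surjective
  · intro g h
    rw [Subtype.mk.injEq, ConjClasses.mk_eq_mk_iff_isConj]
    exact isConj_conjElt_iff g h

end Classes

end Cfsg.Agent.Lib.Linalg.RegularClasses
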